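import Mathlib.AlgebraicGeometry.ProjectiveSpectrum.Basic

/-!
# `Proj A ≅ Proj A^(d)` for a Veronese subring `A^(d)`

The Veronese subring is given by an injective algebra map `φ : B →ₐ[R] A` carrying `ℬ n` onto
`𝒜 (n * d)`.  The isomorphism is glued from the ring isomorphisms
`Away ℬ g ≅ Away 𝒜 (φ g)` along the standard affine covers.
-/

set_option autoImplicit false
set_option backward.isDefEq.respectTransparency false
universe u

open CategoryTheory CategoryTheory.Limits AlgebraicGeometry HomogeneousLocalization TopologicalSpace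

noncomputable section

namespace Groth.Agent.ProjVeronese

variable {R A : Type u} [CommRing R] [CommRing A] [Algebra R A] {𝒜 : ℕ → Submodule R A}
  [GradedAlgebra 𝒜] {B : Type u} [CommRing B] [Algebra R B] {ℬ : ℕ → Submodule R B}
  [GradedAlgebra ℬ]

/-- A Veronese datum. -/
structure Datum (𝒜 : ℕ → Submodule R A) (ℬ : ℕ → Submodule R B) where
  /-- the exponent -/
  d : ℕ
  hd : 0 < d
  /-- the inclusion -/
  φ : B →ₐ[R] A
  inj : Function.Injective φ
  hdeg : ∀ n : ℕ, Submodule.map φ.toLinearMap (ℬ n) = 𝒜 (n * d)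

variable (V : Datum 𝒜 ℬ)

lemma mem {n : ℕ} {g : B} (hg : g ∈ ℬ n) : V.φ g ∈ 𝒜 (n * V.d) :=
  (V.hdeg n).le (Submodule.mem_map_of_mem hg)

lemma surj {n : ℕ} {a : A} (ha : a ∈ 𝒜 (n * V.d)) : ∃ b ∈ ℬ n, V.φ b = a :=
  Submodule.mem_map.mp ((V.hdeg n).ge ha)

lemma mem_smul {n k : ℕ} {b : B} (hb : b ∈ ℬ (k • n)) : V.φ b ∈ 𝒜 (k • (n * V.d)) := by
  have := mem V hb
  rwa [smul_eq_mul, mul_assoc] at this

lemma exists_image {n : ℕ} {g : B} (hg : g ∈ ℬ n) (x : Away ℬ g) :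
    ∃ y : Away 𝒜 (V.φ g), y.val = Localization.awayMap V.φ.toRingHom g x.val := by
  obtain ⟨k, b, hb, rfl⟩ := Away.mk_surjective ℬ hg x
  refine ⟨Away.mk 𝒜 (mem V hg) k (V.φ b) (mem_smul V hb), ?_⟩
  simp only [Away.val_mk, Localization.mk_eq_mk', Localization.awayMap, IsLocalization.Away.map,
    IsLocalization.map_mk']
  congr 1
  exact Subtype.ext (map_pow V.φ g k).symm

/-- The ring map `Away ℬ g → Away 𝒜 (φ g)`. -/
def θ {n : ℕ} {g : B} (hg : g ∈ ℬ n) : Away ℬ g →+* Away 𝒜 (V.φ g) where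
  toFun x := (exists_image V hg x).choose
  map_one' := val_injective _ <| by
    rw [(exists_image V hg 1).choose_spec, val_one, val_one, map_one]
  map_zero' := val_injective _ <| by
    rw [(exists_image V hg 0).choose_spec, val_zero, val_zero, map_zero]
  map_add' x y := val_injective _ <| by
    rw [(exists_image V hg (x + y)).choose_spec, val_add, val_add, map_add,
      (exists_image V hg x).choose_spec, (exists_image V hg y).choose_spec]
  map_mul' x y := val_injective _ <| by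
    rw [(exists_image V hg (x * y)).choose_spec, val_mul, val_mul, map_mul,
      (exists_image V hg x).choose_spec, (exists_image V hg y).choose_spec]

lemma θ_val {n : ℕ} {g : B} (hg : g ∈ ℬ n) (x : Away ℬ g) :
    (θ V hg x).val = Localization.awayMap V.φ.toRingHom g x.val :=
  (exists_image V hg x).choose_spec

lemma θ_mk {n : ℕ} {g : B} (hg : g ∈ ℬ n) (k : ℕ) (b : B) (hb : b ∈ ℬ (k • n)) :
    θ V hg (Away.mk ℬ hg k b hb) = Away.mk 𝒜 (mem V hg) k (V.φ b) (mem_smul V hb) := by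
  apply val_injective
  rw [θ_val]
  simp only [Away.val_mk, Localization.mk_eq_mk', Localization.awayMap, IsLocalization.Away.map,
    IsLocalization.map_mk']
  congr 1
  exact Subtype.ext (map_pow V.φ g k)

lemma θ_bijective {n : ℕ} {g : B} (hg : g ∈ ℬ n) : Function.Bijective (θ V hg) := by
  constructor
  · rw [injective_iff_map_eq_zero]
    intro z hz
    obtain ⟨k, b, hb, rfl⟩ := Away.mk_surjective ℬ hg z
    rw [θ_mk] at hz
    have hz' := congrArg HomogeneousLocalization.val hz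
    rw [val_zero, Away.val_mk, Localization.mk_eq_mk', IsLocalization.mk'_eq_zero_iff] at hz'
    obtain ⟨⟨_, j, rfl⟩, hj⟩ := hz'
    refine val_injective _ ?_
    rw [val_zero, Away.val_mk, Localization.mk_eq_mk', IsLocalization.mk'_eq_zero_iff]
    exact ⟨⟨_, j, rfl⟩, V.inj (by simpa using hj)⟩
  · intro y
    obtain ⟨k, a, ha, rfl⟩ := Away.mk_surjective 𝒜 (mem V hg) y
    obtain ⟨b, hb, rfl⟩ := surj V (n := k • n) (a := a) (by rwa [smul_eq_mul, mul_assoc])
    exact ⟨Away.mk ℬ hg k b hb, θ_mk V hg k b hb⟩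

/-- The isomorphism of charts. -/
def chartIso {n : ℕ} {g : B} (hg : g ∈ ℬ n) :
    Spec (.of (Away 𝒜 (V.φ g))) ≅ Spec (.of (Away ℬ g)) :=
  Scheme.Spec.mapIso (RingEquiv.ofBijective (θ V hg) (θ_bijective V hg)).toCommRingCatIso.op

lemma chartIso_hom {n : ℕ} {g : B} (hg : g ∈ ℬ n) :
    (chartIso V hg).hom = Spec.map (CommRingCat.ofHom (θ V hg)) := rfl

lemma θ_awayMap {n m : ℕ} {g h : B} (hg : g ∈ ℬ n) (hh : h ∈ ℬ m) {x : B} (hx : x = g * h)
    (hxm : x ∈ ℬ (n + m)) (hx' : V.φ x = V.φ g * V.φ h) :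
    (θ V hxm).comp (awayMap ℬ hh hx) = (awayMap 𝒜 (mem V hh) hx').comp (θ V hg) := by
  refine RingHom.ext fun z => ?_
  obtain ⟨k, b, hb, rfl⟩ := Away.mk_surjective ℬ hg z
  apply val_injective
  simp only [RingHom.comp_apply, θ_mk, awayMap_mk]
  simp [map_mul, map_pow]

lemma mul_pos' {n : ℕ} (hn : 0 < n) : 0 < n * V.d := Nat.mul_pos hn V.hd

/-- Index of the covers. -/
abbrev Idx (ℬ : ℕ → Submodule R B) := Σ i : PNat, ℬ i

lemma exists_idx (p : Proj 𝒜) :
    ∃ i : Idx ℬ, p ∈ Proj.basicOpen 𝒜 (V.φ i.2.1) := by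
  classical
  obtain ⟨z, hz, hzp⟩ := SetLike.not_le_iff_exists.mp p.not_irrelevant_le
  have : ∃ m, DirectSum.decompose 𝒜 z m ≠ 0 ∧ (DirectSum.decompose 𝒜 z m : A) ∉ p.asHomogeneousIdeal := by
    by_contra! H
    apply hzp
    rw [← DirectSum.sum_support_decompose 𝒜 z]
    exact sum_mem fun m hm => H m (DFinsupp.mem_support_iff.mp hm)
  obtain ⟨m, hm0, hm⟩ := this
  have hpos : 0 < m := by
    refine Nat.pos_of_ne_zero fun h => hm0 ?_
    subst h
    exact Subtype.ext hz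
  obtain ⟨b, hb, hbe⟩ := surj V (n := m)
    (a := (DirectSum.decompose 𝒜 z m : A) ^ V.d) (by
      have := SetLike.pow_mem_graded V.d (DirectSum.decompose 𝒜 z m).2
      rwa [smul_eq_mul, mul_comm] at this)
  refine ⟨⟨⟨m, hpos⟩, ⟨b, hb⟩⟩, ?_⟩
  rw [Proj.mem_basicOpen]
  show V.φ b ∉ _
  rw [hbe]
  exact fun h => hm (p.isPrime.mem_of_pow_mem _ h)

/-- The cover of `Proj 𝒜` by the `D₊(φ g)`. -/
@[simps]
def cover : (Proj 𝒜).AffineOpenCover where
  I₀ := Idx ℬ
  X i := .of (Away 𝒜 (V.φ i.2.1))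
  f i := Proj.awayι 𝒜 (V.φ i.2.1) (mem V i.2.2) (mul_pos' V i.1.2)
  idx p := (exists_idx V p).choose
  covers p := by
    change p ∈ (Proj.awayι 𝒜 _ _ _).opensRange
    rw [Proj.opensRange_awayι]
    exact (exists_idx V p).choose_spec

/-- The two composites on an overlap agree. -/
lemma overlap {n m : ℕ} {g h : B} (hn : 0 < n) (hm : 0 < m) (hg : g ∈ ℬ n) (hh : h ∈ ℬ m) :
    pullback.fst (Proj.awayι 𝒜 (V.φ g) (mem V hg) (mul_pos' V hn))
        (Proj.awayι 𝒜 (V.φ h) (mem V hh) (mul_pos' V hm)) ≫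
      (chartIso V hg).hom ≫ Proj.awayι ℬ g hg hn =
    pullback.snd _ _ ≫ (chartIso V hh).hom ≫ Proj.awayι ℬ h hh hm := by
  rw [← cancel_epi (Proj.pullbackAwayιIso 𝒜 (mem V hg) (mul_pos' V hn) (mem V hh) (mul_pos' V hm)
    (x := V.φ (g * h)) (map_mul V.φ g h)).inv]
  rw [Proj.pullbackAwayιIso_inv_fst_assoc, Proj.pullbackAwayιIso_inv_snd_assoc, chartIso_hom,
    chartIso_hom, ← Spec.map_comp_assoc, ← Spec.map_comp_assoc, ← CommRingCat.ofHom_comp,
    ← CommRingCat.ofHom_comp,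
    ← θ_awayMap V hg hh rfl (SetLike.mul_mem_graded hg hh) (map_mul V.φ g h),
    ← θ_awayMap V hh hg (mul_comm g h) (add_comm n m ▸ SetLike.mul_mem_graded hg hh)
      ((map_mul V.φ g h).trans (mul_comm _ _)),
    CommRingCat.ofHom_comp, CommRingCat.ofHom_comp, Spec.map_comp_assoc, Spec.map_comp_assoc,
    Proj.SpecMap_awayMap_awayι ℬ hg hn hh, Proj.SpecMap_awayMap_awayι ℬ hh hm hg]
  rfl

/-- `Proj 𝒜 ⟶ Proj ℬ`. -/
def hom : Proj 𝒜 ⟶ Proj ℬ :=
  (cover V).openCover.glueMorphisms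
    (fun i => (chartIso V i.2.2).hom ≫ Proj.awayι ℬ i.2.1 i.2.2 i.1.2)
    (fun i j => overlap V i.1.2 j.1.2 i.2.2 j.2.2)

lemma awayι_hom {n : ℕ} {g : B} (hn : 0 < n) (hg : g ∈ ℬ n) :
    Proj.awayι 𝒜 (V.φ g) (mem V hg) (mul_pos' V hn) ≫ hom V =
      Spec.map (CommRingCat.ofHom (θ V hg)) ≫ Proj.awayι ℬ g hg hn :=
  (cover V).openCover.ι_glueMorphisms _ _ ⟨⟨n, hn⟩, ⟨g, hg⟩⟩

lemma overlap_inv {n m : ℕ} {g h : B} (hn : 0 < n) (hm : 0 < m) (hg : g ∈ ℬ n) (hh : h ∈ ℬ m) :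
    pullback.fst (Proj.awayι ℬ g hg hn) (Proj.awayι ℬ h hh hm) ≫
      (chartIso V hg).inv ≫ Proj.awayι 𝒜 (V.φ g) (mem V hg) (mul_pos' V hn) =
    pullback.snd _ _ ≫ (chartIso V hh).inv ≫
      Proj.awayι 𝒜 (V.φ h) (mem V hh) (mul_pos' V hm) := by
  rw [← cancel_epi (Proj.pullbackAwayιIso ℬ hg hn hh hm (x := g * h) rfl).inv,
    Proj.pullbackAwayιIso_inv_fst_assoc, Proj.pullbackAwayιIso_inv_snd_assoc,
    ← cancel_epi (chartIso V (SetLike.mul_mem_graded hg hh)).hom]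
  have e1 : (chartIso V (SetLike.mul_mem_graded hg hh)).hom ≫
      Spec.map (CommRingCat.ofHom (awayMap ℬ hh rfl)) =
      Spec.map (CommRingCat.ofHom (awayMap 𝒜 (mem V hh) (map_mul V.φ g h))) ≫
        (chartIso V hg).hom := by
    rw [chartIso_hom, chartIso_hom, ← Spec.map_comp, ← Spec.map_comp, ← CommRingCat.ofHom_comp,
      ← CommRingCat.ofHom_comp, θ_awayMap]
  have e2 : (chartIso V (SetLike.mul_mem_graded hg hh)).hom ≫
      Spec.map (CommRingCat.ofHom (awayMap ℬ hg (mul_comm g h))) =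
      Spec.map (CommRingCat.ofHom
          (awayMap 𝒜 (mem V hg) ((map_mul V.φ g h).trans (mul_comm _ _)))) ≫
        (chartIso V hh).hom := by
    rw [chartIso_hom, chartIso_hom, ← Spec.map_comp, ← Spec.map_comp, ← CommRingCat.ofHom_comp,
      ← CommRingCat.ofHom_comp]
    congr 2
    refine RingHom.ext fun z => ?_
    obtain ⟨k, b, hb, rfl⟩ := Away.mk_surjective ℬ hh z
    apply val_injective
    simp only [RingHom.comp_apply, θ_mk, awayMap_mk]
    rw [θ_val]
    simp only [Away.val_mk, Localization.mk_eq_mk', Localization.awayMap,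
      IsLocalization.Away.map, IsLocalization.map_mk']
    congr 1
    · simp
    · exact Subtype.ext (by simp [mul_comm])
  rw [reassoc_of% e1, reassoc_of% e2, Iso.hom_inv_id_assoc, Iso.hom_inv_id_assoc,
    Proj.SpecMap_awayMap_awayι 𝒜 (mem V hg) (mul_pos' V hn) (mem V hh),
    Proj.SpecMap_awayMap_awayι 𝒜 (mem V hh) (mul_pos' V hm) (mem V hg)]
  rfl

/-- `Proj ℬ ⟶ Proj 𝒜`. -/
def inv : Proj ℬ ⟶ Proj 𝒜 :=
  (Proj.affineOpenCover ℬ).openCover.glueMorphisms
    (fun i => (chartIso V i.2.2).inv ≫ Proj.awayι 𝒜 (V.φ i.2.1) (mem V i.2.2) (mul_pos' V i.1.2))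
    (fun i j => overlap_inv V i.1.2 j.1.2 i.2.2 j.2.2)

lemma awayι_inv {n : ℕ} {g : B} (hn : 0 < n) (hg : g ∈ ℬ n) :
    Proj.awayι ℬ g hg hn ≫ inv V =
      (chartIso V hg).inv ≫ Proj.awayι 𝒜 (V.φ g) (mem V hg) (mul_pos' V hn) :=
  (Proj.affineOpenCover ℬ).openCover.ι_glueMorphisms _ _ ⟨⟨n, hn⟩, ⟨g, hg⟩⟩

/-- `Proj 𝒜 ≅ Proj ℬ`. -/
def iso : Proj 𝒜 ≅ Proj ℬ where
  hom := hom V
  inv := inv V
  hom_inv_id := by
    refine (cover V).openCover.hom_ext _ _ fun i => ?_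
    change Proj.awayι 𝒜 (V.φ i.2.1) (mem V i.2.2) (mul_pos' V i.1.2) ≫ _ = _ ≫ _
    rw [← Category.assoc, awayι_hom V i.1.2 i.2.2, Category.assoc, awayι_inv, ← chartIso_hom,
      Iso.hom_inv_id_assoc, Category.comp_id]
    rfl
  inv_hom_id := by
    refine (Proj.affineOpenCover ℬ).openCover.hom_ext _ _ fun i => ?_
    change Proj.awayι ℬ i.2.1 i.2.2 i.1.2 ≫ _ = _ ≫ _
    rw [← Category.assoc, awayι_inv, Category.assoc, awayι_hom, ← chartIso_hom,
      Iso.inv_hom_id_assoc, Category.comp_id]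
    rfl

lemma hom_preimage_basicOpen {m : ℕ} {h : B} (hm : 0 < m) (hh : h ∈ ℬ m) :
    hom V ⁻¹ᵁ Proj.basicOpen ℬ h = Proj.basicOpen 𝒜 (V.φ h) := by
  have key : ∀ (i : Idx ℬ),
      Proj.awayι 𝒜 (V.φ i.2.1) (mem V i.2.2) (mul_pos' V i.1.2) ⁻¹ᵁ
          (hom V ⁻¹ᵁ Proj.basicOpen ℬ h) =
      Proj.awayι 𝒜 (V.φ i.2.1) (mem V i.2.2) (mul_pos' V i.1.2) ⁻¹ᵁ Proj.basicOpen 𝒜 (V.φ h) := by
    intro i
    rw [← Scheme.Hom.comp_preimage, awayι_hom V i.1.2 i.2.2, Scheme.Hom.comp_preimage,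
      Proj.awayι_preimage_basicOpen ℬ i.2.2 i.1.2 hh hm,
      Proj.awayι_preimage_basicOpen 𝒜 (mem V i.2.2) (mul_pos' V i.1.2) (mem V hh) (mul_pos' V hm)]
    change PrimeSpectrum.basicOpen (θ V i.2.2 (Away.isLocalizationElem i.2.2 hh)) = _
    rw [← PrimeSpectrum.basicOpen_pow _ V.d V.hd]
    congr 1
    apply val_injective
    rw [val_pow, θ_val]
    simp only [Away.val_mk, Localization.mk_eq_mk', Localization.awayMap,
      IsLocalization.Away.map, IsLocalization.map_mk']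
    erw [← IsLocalization.mk'_pow]
    congr 1
    · simp [← pow_mul]
    · exact Subtype.ext (by simp [← pow_mul])
  ext p
  obtain ⟨i, hi⟩ := exists_idx V p
  rw [← Proj.opensRange_awayι 𝒜 _ (mem V i.2.2) (mul_pos' V i.1.2)] at hi
  obtain ⟨q, rfl⟩ := hi
  have := congrArg (fun U : TopologicalSpace.Opens _ => q ∈ U) (key i)
  simpa using this

lemma hom_apply (p : Proj 𝒜) :
    ((hom V).base p).asHomogeneousIdeal.toIdeal =
      Ideal.comap V.φ p.asHomogeneousIdeal.toIdeal := by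
  classical
  have hpos : ∀ {m : ℕ}, 0 < m → ∀ {h : B}, h ∈ ℬ m →
      (h ∈ ((hom V).base p).asHomogeneousIdeal ↔ V.φ h ∈ p.asHomogeneousIdeal) := by
    intro m hm h hh
    have := congrArg (fun U : TopologicalSpace.Opens _ => p ∈ U) (hom_preimage_basicOpen V hm hh)
    exact not_iff_not.mp (by simpa [Proj.mem_basicOpen] using this)
  obtain ⟨⟨⟨n, hn⟩, ⟨g, hg⟩⟩, hgp⟩ := exists_idx V p
  rw [Proj.mem_basicOpen] at hgp
  have hall : ∀ {m : ℕ} {h : B}, h ∈ ℬ m →
      (h ∈ ((hom V).base p).asHomogeneousIdeal ↔ V.φ h ∈ p.asHomogeneousIdeal) := by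
    intro m h hh
    have hg' : g ∉ ((hom V).base p).asHomogeneousIdeal := fun hg'' => hgp ((hpos hn hg).mp hg'')
    have := hpos (Nat.add_pos_right m hn) (SetLike.mul_mem_graded hh hg)
    rw [map_mul] at this
    exact ⟨fun H => (p.isPrime.mem_or_mem (this.mp (Ideal.mul_mem_right _ _ H))).resolve_right hgp,
      fun H => (((hom V).base p).isPrime.mem_or_mem
        (this.mpr (Ideal.mul_mem_right _ _ H))).resolve_right hg'⟩
  have hcomp : ∀ (b : B) (m : ℕ), V.φ (DirectSum.decompose ℬ b m : B) =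
      (DirectSum.decompose 𝒜 (V.φ b) (m * V.d) : A) := by
    intro b
    induction b using DirectSum.Decomposition.inductionOn ℬ with
    | zero => intro m; simp
    | @homogeneous k x =>
      intro m
      by_cases hkm : k = m
      · subst hkm
        rw [DirectSum.decompose_of_mem_same _ x.2, DirectSum.decompose_of_mem_same _ (mem V x.2)]
      · rw [DirectSum.decompose_of_mem_ne _ x.2 hkm, map_zero,
          DirectSum.decompose_of_mem_ne _ (mem V x.2)]
        intro hk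
        exact hkm (Nat.eq_of_mul_eq_mul_right V.hd hk)
    | add x y hx hy =>
      intro m
      simp [map_add, hx m, hy m]
  ext b
  rw [Ideal.mem_comap]
  constructor
  · intro hb
    rw [← DirectSum.sum_support_decompose ℬ b, map_sum]
    exact sum_mem fun m _ => (hall (DirectSum.decompose ℬ b m).2).mp
      (((hom V).base p).asHomogeneousIdeal.isHomogeneous m hb)
  · intro hb
    rw [← DirectSum.sum_support_decompose ℬ b]
    refine sum_mem fun m _ => (hall (DirectSum.decompose ℬ b m).2).mpr ?_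
    rw [hcomp]
    exact p.asHomogeneousIdeal.isHomogeneous (m * V.d) hb

end Groth.Agent.ProjVeronese
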